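import Groth.Prelude.Def_W4c5quivmodgenus0Quiv
import Mathlib.LinearAlgebra.FiniteDimensional.Lemmas
import Mathlib.LinearAlgebra.Dimension.Constructions
import Mathlib.Tactic.Linarith
import Mathlib.Tactic.FieldSimp
import Mathlib.Algebra.Order.BigOperators.Group.Finset
import Mathlib.LinearAlgebra.Matrix.ToLin

/-!
Subspaces of the plane and weights of subrepresentations of the star quiver.
-/

set_option autoImplicit false
universe u v
open Module

namespace K959.QuivBasic

variable {K : Type u} [Field K]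

/-- A subspace of the plane is zero, a line or everything. -/
theorem trichotomy (L : Submodule K (Fin 2 → K)) :
    (L = ⊥ ∧ finrank K L = 0) ∨ (∃ v : Fin 2 → K, v ≠ 0 ∧ L = K ∙ v ∧ finrank K L = 1) ∨
      (L = ⊤ ∧ finrank K L = 2) := by
  have h2 : finrank K (Fin 2 → K) = 2 := by simp
  have hle : finrank K L ≤ 2 := (Submodule.finrank_le L).trans h2.le
  rcases Nat.lt_or_ge (finrank K L) 2 with h | h
  · rcases Nat.lt_or_ge (finrank K L) 1 with h' | h'
    · left
      have h0 : finrank K L = 0 := by omega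
      exact ⟨Submodule.finrank_eq_zero.mp h0, h0⟩
    · right; left
      have h1 : finrank K L = 1 := by omega
      obtain ⟨v, hv, hspan⟩ := finrank_eq_one_iff'.mp h1
      refine ⟨v.1, fun h => hv (Subtype.ext h), ?_, h1⟩
      apply le_antisymm
      · intro w hw
        obtain ⟨c, hc⟩ := hspan ⟨w, hw⟩
        exact Submodule.mem_span_singleton.mpr ⟨c, congrArg Subtype.val hc⟩
      · rw [Submodule.span_singleton_le_iff_mem]
        exact v.2
  · right; right
    have h2' : finrank K L = 2 := by omega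
    exact ⟨Submodule.eq_top_of_finrank_eq (h2'.trans h2.symm), h2'⟩

theorem finrank_span {v : Fin 2 → K} (hv : v ≠ 0) : finrank K (K ∙ v) = 1 :=
  finrank_span_singleton hv

theorem wt_bot {ι : Type v} (η : ℚ) (θ : ι → ℚ) (I : Finset ι) :
    PtQuiv.QWt K η θ ⊥ I = ∑ i ∈ I, θ i := by
  simp [PtQuiv.QWt]

theorem wt_top {ι : Type v} (η : ℚ) (θ : ι → ℚ) (I : Finset ι) :
    PtQuiv.QWt K η θ ⊤ I = 2 * η + ∑ i ∈ I, θ i := by
  simp [PtQuiv.QWt, mul_comm]

theorem wt_span {ι : Type v} (η : ℚ) (θ : ι → ℚ) (I : Finset ι) {v : Fin 2 → K} (hv : v ≠ 0) :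
    PtQuiv.QWt K η θ (K ∙ v) I = η + ∑ i ∈ I, θ i := by
  simp [PtQuiv.QWt, finrank_span hv]

end K959.QuivBasic
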