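import Groth.Agent.PtQuiv.K959.Basic

/-!
Subrepresentations of the star quiver representation `s` and of the bipartite quiver
representation `t`, where `s i = t i 0 • s a + t i 1 • s b`.
-/

set_option autoImplicit false
universe u v
open Module K959.QuivBasic

namespace K959.QuivTransfer

variable {K : Type u} [Field K] {κ : Type v} [Fintype κ] [DecidableEq κ]

abbrev Oth (a b : κ) : Type v := {i : κ // i ≠ a ∧ i ≠ b}

omit [Fintype κ] in
theorem sum_split (a b : κ) (hab : a ≠ b) (θ : κ → ℚ) (J : Finset κ) (I : Finset (Oth a b))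
    (h : ∀ i : Oth a b, i ∈ I ↔ i.1 ∈ J) :
    ∑ i ∈ J, θ i = ∑ i ∈ I, θ i.1 + (if a ∈ J then θ a else 0) + (if b ∈ J then θ b else 0) := by
  have hI : I = J.subtype (fun i => i ≠ a ∧ i ≠ b) := by
    ext i; rw [h, Finset.mem_subtype]
  rw [hI, Finset.sum_subtype_eq_sum_filter]
  have e1 : ∑ i ∈ J, θ i = ∑ i ∈ J, ((if (i ≠ a ∧ i ≠ b) then θ i else 0) +
      (if i = a then θ i else 0) + (if i = b then θ i else 0)) := by
    refine Finset.sum_congr rfl fun i _ => ?_
    by_cases h1 : i = a
    · subst h1; simp [hab]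
    · by_cases h2 : i = b
      · subst h2; simp [h1]
      · simp [h1, h2]
  rw [e1, Finset.sum_add_distrib, Finset.sum_add_distrib, Finset.sum_filter,
    Finset.sum_ite_eq', Finset.sum_ite_eq']

omit [Fintype κ] [DecidableEq κ] in
theorem pwt (θ : κ → ℚ) (a b : κ) (U : Fin 2 → Submodule K K) (I : Finset (Oth a b))
    (hθ' : θ a + θ b < 2) :
    (2 - θ a - θ b) * PtQuiv.PWt K
      ![(2 - θ a - θ b)⁻¹ * (θ a - 1), (2 - θ a - θ b)⁻¹ * (θ b - 1)]
      (fun i : Oth a b => (2 - θ a - θ b)⁻¹ * θ i.1) U I =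
      (θ a - 1) * (finrank K (U 0) : ℚ) + (θ b - 1) * (finrank K (U 1) : ℚ) +
        ∑ i ∈ I, θ i.1 := by
  have hne : (2 - θ a - θ b) ≠ 0 := by
    intro h; linarith
  unfold PtQuiv.PWt
  rw [Fin.sum_univ_two, ← Finset.mul_sum]
  simp only [Matrix.cons_val_zero, Matrix.cons_val_one]
  field_simp

theorem pwt_sum (θ : κ → ℚ) (a b : κ) (hab : a ≠ b) (h2 : ∑ i, θ i = 2) (hθ' : θ a + θ b < 2) :
    (∑ j, (![(2 - θ a - θ b)⁻¹ * (θ a - 1), (2 - θ a - θ b)⁻¹ * (θ b - 1)] : Fin 2 → ℚ) j) +
      ∑ i : Oth a b, (2 - θ a - θ b)⁻¹ * θ i.1 = 0 := by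
  have hne : (2 - θ a - θ b) ≠ 0 := by
    intro h; linarith
  have e := sum_split a b hab θ Finset.univ Finset.univ (fun i => by simp)
  simp only [Finset.mem_univ, if_true] at e
  rw [h2] at e
  have e' : ∑ i : Oth a b, θ i.1 = 2 - θ a - θ b := by linarith
  rw [Fin.sum_univ_two, ← Finset.mul_sum, e']
  simp only [Matrix.cons_val_zero, Matrix.cons_val_one]
  field_simp
  ring

variable (a b : κ) (hab : a ≠ b) (s : κ → (Fin 2 → K)) (θ : κ → ℚ)

theorem sub_bot_or_top (U : Submodule K K) :
    (U = ⊥ ∧ finrank K U = 0) ∨ (U = ⊤ ∧ finrank K U = 1) := by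
  rcases eq_bot_or_eq_top U with rfl | rfl
  · left; simp
  · right; simp

include hab in
/-- From subrepresentations of `t` to subrepresentations of `s`. -/
theorem exists_q (hθ' : θ a + θ b < 2)
    (hli : LinearIndependent K ![s a, s b]) (t : Oth a b → (Fin 2 → K))
    (ht : ∀ i, s i.1 = t i 0 • s a + t i 1 • s b)
    (U : Fin 2 → Submodule K K) (I : Finset (Oth a b)) (hU : PtQuiv.PSubrep t U I) :
    ∃ (L : Submodule K (Fin 2 → K)) (J : Finset κ), PtQuiv.QSubrep s L J ∧
      PtQuiv.QWt K (-1) θ L J = (2 - θ a - θ b) * PtQuiv.PWt K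
        ![(2 - θ a - θ b)⁻¹ * (θ a - 1), (2 - θ a - θ b)⁻¹ * (θ b - 1)]
        (fun i : Oth a b => (2 - θ a - θ b)⁻¹ * θ i.1) U I ∧
      (L = ⊥ ∧ J = ∅ → U = ⊥ ∧ I = ∅) ∧ (L = ⊤ ∧ J = Finset.univ → U = ⊤ ∧ I = Finset.univ) := by
  have hsa : s a ≠ 0 := by simpa using hli.ne_zero 0
  have hsb : s b ≠ 0 := by simpa using hli.ne_zero 1
  have hp := pwt (K := K) θ a b U I hθ'
  -- the set of kept indices for given flags
  let JJ (x y : Prop) [Decidable x] [Decidable y] : Finset κ :=
    Finset.univ.filter (fun i => (∃ h : i ≠ a ∧ i ≠ b, (⟨i, h⟩ : Oth a b) ∈ I) ∨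
      (i = a ∧ x) ∨ (i = b ∧ y))
  have memJ : ∀ (x y : Prop) [Decidable x] [Decidable y] (i : κ), i ∈ JJ x y ↔
      ((∃ h : i ≠ a ∧ i ≠ b, (⟨i, h⟩ : Oth a b) ∈ I) ∨ (i = a ∧ x) ∨ (i = b ∧ y)) := by
    intro x y _ _ i
    simp [JJ]
  have memJ' : ∀ (x y : Prop) [Decidable x] [Decidable y] (i : Oth a b), i ∈ I ↔ i.1 ∈ JJ x y := by
    intro x y _ _ i
    rw [memJ]
    constructor
    · intro h; exact Or.inl ⟨i.2, h⟩
    · rintro (⟨_, h⟩ | ⟨h, -⟩ | ⟨h, -⟩)
      · exact h
      · exact absurd h i.2.1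
      · exact absurd h i.2.2
  have mema : ∀ (x y : Prop) [Decidable x] [Decidable y], (a ∈ JJ x y ↔ x) := by
    intro x y _ _
    rw [memJ]
    constructor
    · rintro (⟨h, _⟩ | ⟨_, h⟩ | ⟨h, -⟩)
      · exact absurd rfl h.1
      · exact h
      · exact absurd h hab
    · intro h; exact Or.inr (Or.inl ⟨rfl, h⟩)
  have memb : ∀ (x y : Prop) [Decidable x] [Decidable y], (b ∈ JJ x y ↔ y) := by
    intro x y _ _
    rw [memJ]
    constructor
    · rintro (⟨h, _⟩ | ⟨h, _⟩ | ⟨_, h⟩)
      · exact absurd rfl h.2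
      · exact absurd h hab.symm
      · exact h
    · intro h; exact Or.inr (Or.inr ⟨rfl, h⟩)
  have hI : ∀ (x y : Prop) [Decidable x] [Decidable y], JJ x y = Finset.univ →
      I = Finset.univ := by
    intro x y _ _ h
    refine Finset.eq_univ_iff_forall.mpr fun i => ?_
    rw [memJ' x y i, h]; exact Finset.mem_univ _
  have hI' : ∀ (x y : Prop) [Decidable x] [Decidable y], JJ x y = ∅ → I = ∅ := by
    intro x y _ _ h
    refine Finset.eq_empty_of_forall_notMem fun i hi => ?_
    rw [memJ' x y i, h] at hi; exact absurd hi (Finset.notMem_empty _)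
  have hspan : ∀ w : Fin 2 → K, w ≠ 0 → (K ∙ w) ≠ (⊤ : Submodule K (Fin 2 → K)) := by
    intro w hw h
    have := congrArg (fun L : Submodule K (Fin 2 → K) => finrank K L) h
    simp [finrank_span hw] at this
  rcases sub_bot_or_top (U 0) with ⟨h0, h0'⟩ | ⟨h0, h0'⟩ <;>
    rcases sub_bot_or_top (U 1) with ⟨h1, h1'⟩ | ⟨h1, h1'⟩
  · refine ⟨⊥, JJ False False, ?_, ?_, ?_, ?_⟩
    · intro i hi
      rw [memJ] at hi
      rcases hi with ⟨h, hi⟩ | ⟨_, h⟩ | ⟨_, h⟩
      · have e0 := hU _ hi 0
        have e1 := hU _ hi 1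
        rw [h0, Submodule.mem_bot] at e0
        rw [h1, Submodule.mem_bot] at e1
        rw [Submodule.mem_bot]
        have := ht ⟨i, h⟩
        rw [e0, e1, zero_smul, zero_smul, add_zero] at this
        exact this
      · exact h.elim
      · exact h.elim
    · rw [hp, wt_bot, sum_split a b hab θ _ I (memJ' False False), h0', h1']
      simp [mema, memb]
    · rintro ⟨-, h⟩
      refine ⟨?_, hI' _ _ h⟩
      funext j; fin_cases j
      · exact h0
      · exact h1
    · rintro ⟨h, -⟩
      have : s a ∈ (⊥ : Submodule K (Fin 2 → K)) := h ▸ Submodule.mem_top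
      exact absurd (by simpa using this) hsa
  · refine ⟨K ∙ s b, JJ False True, ?_, ?_, ?_, ?_⟩
    · intro i hi
      rw [memJ] at hi
      rcases hi with ⟨h, hi⟩ | ⟨_, h⟩ | ⟨h, _⟩
      · have e0 := hU _ hi 0
        rw [h0, Submodule.mem_bot] at e0
        have := ht ⟨i, h⟩
        rw [e0, zero_smul, zero_add] at this
        exact Submodule.mem_span_singleton.mpr ⟨_, this.symm⟩
      · exact h.elim
      · rw [h]; exact Submodule.mem_span_singleton_self _
    · rw [hp, wt_span _ _ _ hsb, sum_split a b hab θ _ I (memJ' False True), h0', h1']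
      simp only [mema, memb, if_false, if_true]
      push_cast
      ring
    · rintro ⟨h, -⟩
      exact absurd (by simpa using h) hsb
    · rintro ⟨h, -⟩
      exact absurd h (hspan _ hsb)
  · refine ⟨K ∙ s a, JJ True False, ?_, ?_, ?_, ?_⟩
    · intro i hi
      rw [memJ] at hi
      rcases hi with ⟨h, hi⟩ | ⟨h, _⟩ | ⟨_, h⟩
      · have e1 := hU _ hi 1
        rw [h1, Submodule.mem_bot] at e1
        have := ht ⟨i, h⟩
        rw [e1, zero_smul, add_zero] at this
        exact Submodule.mem_span_singleton.mpr ⟨_, this.symm⟩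
      · rw [h]; exact Submodule.mem_span_singleton_self _
      · exact h.elim
    · rw [hp, wt_span _ _ _ hsa, sum_split a b hab θ _ I (memJ' True False), h0', h1']
      simp only [mema, memb, if_false, if_true]
      push_cast
      ring
    · rintro ⟨h, -⟩
      exact absurd (by simpa using h) hsa
    · rintro ⟨h, -⟩
      exact absurd h (hspan _ hsa)
  · refine ⟨⊤, JJ True True, fun _ _ => Submodule.mem_top, ?_, ?_, ?_⟩
    · rw [hp, wt_top, sum_split a b hab θ _ I (memJ' True True), h0', h1']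
      simp only [mema, memb, if_true]
      push_cast
      ring
    · rintro ⟨h, -⟩
      have : s a ∈ (⊥ : Submodule K (Fin 2 → K)) := h ▸ Submodule.mem_top
      exact absurd (by simpa using this) hsa
    · rintro ⟨-, h⟩
      refine ⟨?_, hI _ _ h⟩
      funext j; fin_cases j
      · exact h0
      · exact h1

include hab in
/-- From subrepresentations of `s` to subrepresentations of `t`. -/
theorem exists_p (h0 : ∀ i, 0 ≤ θ i) (h1 : ∀ i, θ i ≤ 1) (h2 : ∑ i, θ i = 2)
    (hθ : 1 < θ a + θ b) (hθ' : θ a + θ b < 2)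
    (hli : LinearIndependent K ![s a, s b]) (t : Oth a b → (Fin 2 → K))
    (ht : ∀ i, s i.1 = t i 0 • s a + t i 1 • s b)
    (L : Submodule K (Fin 2 → K)) (J : Finset κ) (hL : PtQuiv.QSubrep s L J) :
    PtQuiv.QWt K (-1) θ L J < 0 ∨
    ∃ (U : Fin 2 → Submodule K K) (I : Finset (Oth a b)), PtQuiv.PSubrep t U I ∧
      PtQuiv.QWt K (-1) θ L J = (2 - θ a - θ b) * PtQuiv.PWt K
        ![(2 - θ a - θ b)⁻¹ * (θ a - 1), (2 - θ a - θ b)⁻¹ * (θ b - 1)]
        (fun i : Oth a b => (2 - θ a - θ b)⁻¹ * θ i.1) U I ∧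
      (U = ⊥ ∧ I = ∅ → L = ⊥ ∧ J = ∅) ∧ (U = ⊤ ∧ I = Finset.univ → L = ⊤ ∧ J = Finset.univ) := by
  have hsa : s a ≠ 0 := by simpa using hli.ne_zero 0
  have hsb : s b ≠ 0 := by simpa using hli.ne_zero 1
  have hp := fun U I => pwt (K := K) θ a b U I hθ'
  have ha : 0 < θ a := by linarith [h1 b]
  have hb : 0 < θ b := by linarith [h1 a]
  have hpair := LinearIndependent.pair_iff.mp hli
  have ebt : (⊥ : Submodule K K) ≠ ⊤ := bot_ne_top
  have fT : finrank K (⊤ : Submodule K K) = 1 := by simp
  have fB : finrank K (⊥ : Submodule K K) = 0 := by simp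
  let I : Finset (Oth a b) := J.subtype (fun i => i ≠ a ∧ i ≠ b)
  have hI : ∀ i : Oth a b, i ∈ I ↔ i.1 ∈ J := fun i => by simp [I]
  have hs := sum_split a b hab θ J I hI
  have hIsum : ∑ i ∈ I, θ i.1 ≤ 2 - θ a - θ b := by
    have e := sum_split a b hab θ Finset.univ Finset.univ (fun i => by simp)
    simp only [Finset.mem_univ, if_true] at e
    rw [h2] at e
    have : ∑ i ∈ I, θ i.1 ≤ ∑ i : Oth a b, θ i.1 :=
      Finset.sum_le_sum_of_subset_of_nonneg (Finset.subset_univ I) fun i _ _ => h0 i.1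
    linarith
  rcases trichotomy L with ⟨rfl, -⟩ | ⟨v, hv, rfl, -⟩ | ⟨rfl, -⟩
  · -- `L = 0`
    right
    have ha' : a ∉ J := fun h => hsa (by simpa using hL a h)
    have hb' : b ∉ J := fun h => hsb (by simpa using hL b h)
    refine ⟨⊥, I, ?_, ?_, ?_, ?_⟩
    · intro i hi j
      have e := hL i.1 ((hI i).mp hi)
      rw [Submodule.mem_bot, ht i] at e
      have := hpair _ _ e
      fin_cases j
      · simpa using this.1
      · simpa using this.2
    · rw [hp, wt_bot, hs]
      simp [ha', hb']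
    · rintro ⟨-, h⟩
      refine ⟨rfl, Finset.eq_empty_of_forall_notMem fun i hi => ?_⟩
      have hia : i ≠ a := fun e => ha' (e ▸ hi)
      have hib : i ≠ b := fun e => hb' (e ▸ hi)
      have := (hI ⟨i, hia, hib⟩).mpr hi
      rw [h] at this
      exact absurd this (Finset.notMem_empty _)
    · rintro ⟨h, -⟩
      exact absurd (congrFun h 0) ebt
  · -- `L` a line
    by_cases haJ : a ∈ J
    · right
      obtain ⟨c, hc⟩ := Submodule.mem_span_singleton.mp (hL a haJ)
      have hc0 : c ≠ 0 := by rintro rfl; exact hsa (by rw [← hc, zero_smul])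
      have hva : v = c⁻¹ • s a := by rw [← hc, smul_smul, inv_mul_cancel₀ hc0, one_smul]
      have key : ∀ x y : K, x • s a + y • s b ∈ K ∙ v → y = 0 := by
        intro x y h
        obtain ⟨d, hd⟩ := Submodule.mem_span_singleton.mp h
        rw [hva, smul_smul] at hd
        have : (x - d * c⁻¹) • s a + y • s b = 0 := by
          rw [sub_smul, hd]; abel
        exact (hpair _ _ this).2
      have hbJ : b ∉ J := by
        intro h
        have := key 0 1 (by rw [zero_smul, one_smul, zero_add]; exact hL b h)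
        exact one_ne_zero this
      refine ⟨![⊤, ⊥], I, ?_, ?_, ?_, ?_⟩
      · intro i hi j
        have e := hL i.1 ((hI i).mp hi)
        rw [ht i] at e
        fin_cases j
        · exact Submodule.mem_top
        · simpa using key _ _ e
      · rw [hp, wt_span _ _ _ hv, hs, show (![⊤, ⊥] : Fin 2 → Submodule K K) 0 = ⊤ from rfl,
          show (![⊤, ⊥] : Fin 2 → Submodule K K) 1 = ⊥ from rfl, fT, fB]
        simp only [haJ, hbJ, if_true, if_false]
        push_cast
        ring
      · rintro ⟨h, -⟩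
        exact absurd (congrFun h 0).symm ebt
      · rintro ⟨h, -⟩
        exact absurd (congrFun h 1) ebt
    · by_cases hbJ : b ∈ J
      · right
        obtain ⟨c, hc⟩ := Submodule.mem_span_singleton.mp (hL b hbJ)
        have hc0 : c ≠ 0 := by rintro rfl; exact hsb (by rw [← hc, zero_smul])
        have hva : v = c⁻¹ • s b := by rw [← hc, smul_smul, inv_mul_cancel₀ hc0, one_smul]
        have key : ∀ x y : K, x • s a + y • s b ∈ K ∙ v → x = 0 := by
          intro x y h
          obtain ⟨d, hd⟩ := Submodule.mem_span_singleton.mp h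
          rw [hva, smul_smul] at hd
          have : x • s a + (y - d * c⁻¹) • s b = 0 := by
            rw [sub_smul, hd]; abel
          exact (hpair _ _ this).1
        refine ⟨![⊥, ⊤], I, ?_, ?_, ?_, ?_⟩
        · intro i hi j
          have e := hL i.1 ((hI i).mp hi)
          rw [ht i] at e
          fin_cases j
          · simpa using key _ _ e
          · exact Submodule.mem_top
        · rw [hp, wt_span _ _ _ hv, hs, show (![⊥, ⊤] : Fin 2 → Submodule K K) 0 = ⊥ from rfl,
            show (![⊥, ⊤] : Fin 2 → Submodule K K) 1 = ⊤ from rfl, fT, fB]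
          simp only [haJ, hbJ, if_true, if_false]
          push_cast
          ring
        · rintro ⟨h, -⟩
          exact absurd (congrFun h 1).symm ebt
        · rintro ⟨h, -⟩
          exact absurd (congrFun h 0) ebt
      · left
        rw [wt_span _ _ _ hv, hs]
        simp only [haJ, hbJ, if_false]
        linarith
  · -- `L` everything
    by_cases haJ : a ∈ J
    · by_cases hbJ : b ∈ J
      · right
        refine ⟨⊤, I, fun _ _ _ => Submodule.mem_top, ?_, ?_, ?_⟩
        · rw [hp, wt_top, hs]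
          simp only [haJ, hbJ, if_true, Pi.top_apply, finrank_top, finrank_self]
          push_cast
          ring
        · rintro ⟨h, -⟩
          exact absurd (congrFun h 0).symm ebt
        · rintro ⟨-, h⟩
          refine ⟨rfl, Finset.eq_univ_iff_forall.mpr fun i => ?_⟩
          by_cases hia : i = a
          · rw [hia]; exact haJ
          · by_cases hib : i = b
            · rw [hib]; exact hbJ
            · exact (hI ⟨i, hia, hib⟩).mp (h ▸ Finset.mem_univ _)
      · left
        rw [wt_top, hs]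
        simp only [haJ, hbJ, if_true, if_false]
        linarith
    · left
      rw [wt_top, hs]
      simp only [haJ, if_false]
      split_ifs <;> linarith

include hab in
/-- A semistable representation has `s a`, `s b` independent. -/
theorem linearIndependent (hθ : 1 < θ a + θ b) (h : PtQuiv.QSemistable (-1) θ s) :
    LinearIndependent K ![s a, s b] := by
  rw [LinearIndependent.pair_iff]
  by_contra hcon
  obtain ⟨v, hva, hvb⟩ : ∃ v : Fin 2 → K, s a ∈ K ∙ v ∧ s b ∈ K ∙ v := by
    push Not at hcon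
    obtain ⟨x, y, hxy, hne⟩ := hcon
    by_cases hx : x = 0
    · have hy := hne hx
      refine ⟨s a, Submodule.mem_span_singleton_self _, ?_⟩
      rw [hx, zero_smul, zero_add] at hxy
      have : s b = 0 := (smul_eq_zero.mp hxy).resolve_left hy
      rw [this]; exact Submodule.zero_mem _
    · refine ⟨s b, ?_, Submodule.mem_span_singleton_self _⟩
      refine Submodule.mem_span_singleton.mpr ⟨-(x⁻¹ * y), ?_⟩
      have : x⁻¹ • (x • s a + y • s b) = 0 := by rw [hxy, smul_zero]
      rw [smul_add, smul_smul, smul_smul, inv_mul_cancel₀ hx, one_smul] at this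
      rw [neg_smul]
      exact (eq_neg_of_add_eq_zero_left this).symm
  have hsub : PtQuiv.QSubrep s (K ∙ v) {a, b} := by
    intro i hi
    rcases Finset.mem_insert.mp hi with rfl | hi
    · exact hva
    · rw [Finset.mem_singleton.mp hi]; exact hvb
  have hle := h.2 _ _ hsub
  by_cases hv : v = 0
  · subst hv
    rw [show (K ∙ (0 : Fin 2 → K)) = ⊥ by simp, wt_bot, Finset.sum_pair hab] at hle
    linarith
  · rw [wt_span _ _ _ hv, Finset.sum_pair hab] at hle
    linarith

omit [Fintype κ] [DecidableEq κ] in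
/-- Coordinates with respect to the basis `s a`, `s b`. -/
theorem exists_coords (hli : LinearIndependent K ![s a, s b]) :
    ∃ t : Oth a b → (Fin 2 → K), ∀ i, s i.1 = t i 0 • s a + t i 1 • s b := by
  have hspan : Submodule.span K (Set.range ![s a, s b]) = ⊤ :=
    hli.span_eq_top_of_card_eq_finrank' (by simp)
  have : ∀ i : Oth a b, ∃ c : Fin 2 → K, s i.1 = c 0 • s a + c 1 • s b := by
    intro i
    have hi : s i.1 ∈ Submodule.span K (Set.range ![s a, s b]) := hspan ▸ Submodule.mem_top
    obtain ⟨c, hc⟩ := (Submodule.mem_span_range_iff_exists_fun K).mp hi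
    refine ⟨c, ?_⟩
    rw [← hc, Fin.sum_univ_two]
    simp
  choose t ht using this
  exact ⟨t, ht⟩

end K959.QuivTransfer
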